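import Mathlib

/-! Modules whose covariant Hom preserves filtered colimits. -/

set_option autoImplicit false
universe u

open CategoryTheory CategoryTheory.Limits

namespace Groth.Agent.HomColim3

variable {R : Type u} [CommRing R] {P : Type u} [AddCommGroup P] [Module R P] (K : Submodule R P)

/-- Finitely generated submodules of `K`. -/
abbrev Idx : Type u := {L : Submodule R P // L.FG ∧ L ≤ K}

instance : Nonempty (Idx K) := ⟨⟨⊥, Submodule.fg_bot, bot_le⟩⟩

instance : IsDirectedOrder (Idx K) :=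
  ⟨fun a b => ⟨⟨a.1 ⊔ b.1, a.2.1.sup b.2.1, sup_le a.2.2 b.2.2⟩,
    (le_sup_left : a.1 ≤ a.1 ⊔ b.1), (le_sup_right : b.1 ≤ a.1 ⊔ b.1)⟩⟩

/-- The quotients by finitely generated submodules of `K`. -/
noncomputable def sys : Idx K ⥤ ModuleCat.{u} R where
  obj L := ModuleCat.of R (P ⧸ L.1)
  map {L L'} h := ModuleCat.ofHom (Submodule.factor (leOfHom h : L ≤ L'))
  map_id L := ModuleCat.hom_ext (Submodule.linearMap_qext _ (LinearMap.ext fun _ => rfl))
  map_comp _ _ := ModuleCat.hom_ext (Submodule.linearMap_qext _ (LinearMap.ext fun _ => rfl))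

/-- The class of an element of `P` in the colimit. -/
noncomputable def toColim : P →ₗ[R] (colimit (sys K) : ModuleCat.{u} R) :=
  (colimit.ι (sys K) ⟨⊥, Submodule.fg_bot, bot_le⟩).hom ∘ₗ (⊥ : Submodule R P).mkQ

theorem ι_mk (L : Idx K) (x : P) : (colimit.ι (sys K) L).hom (Submodule.Quotient.mk x) = toColim K x := by
  have h : (⟨⊥, Submodule.fg_bot, bot_le⟩ : Idx K) ≤ L := (bot_le : ⊥ ≤ L.1)
  exact congrArg (fun t => (ModuleCat.Hom.hom t) (Submodule.Quotient.mk x : P ⧸ (⊥ : Submodule R P)))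
    (colimit.w (sys K) (homOfLE h))

theorem toColim_eq_zero {x : P} (hx : x ∈ K) : toColim K x = 0 := by
  rw [← ι_mk K ⟨R ∙ x, Submodule.fg_span_singleton x, (Submodule.span_singleton_le_iff_mem _ _).mpr hx⟩ x,
    (Submodule.Quotient.mk_eq_zero _).mpr (Submodule.mem_span_singleton_self x)]
  exact map_zero (colimit.ι (sys K) _).hom

/-- The cocone of the system on `P ⧸ K`. -/
noncomputable def quotCocone : Cocone (sys K) where
  pt := ModuleCat.of R (P ⧸ K)
  ι :=
    { app := fun L => ModuleCat.ofHom (Submodule.factor L.2.2)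
      naturality := fun _ _ _ => ModuleCat.hom_ext (Submodule.linearMap_qext _ (LinearMap.ext fun _ => rfl)) }

/-- The comparison of the colimit of the system with `P ⧸ K`. -/
noncomputable def toQuot : colimit (sys K) ⟶ ModuleCat.of R (P ⧸ K) :=
  colimit.desc (sys K) (quotCocone K)

theorem toQuot_ι (L : Idx K) (z : P ⧸ L.1) :
    (toQuot K).hom ((colimit.ι (sys K) L).hom z) = Submodule.factor L.2.2 z := by
  unfold toQuot
  exact congrArg (fun t => (ModuleCat.Hom.hom t) z) (colimit.ι_desc (quotCocone K) L)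

theorem toQuot_toColim (y : P) : (toQuot K).hom (toColim K y) = Submodule.Quotient.mk y :=
  toQuot_ι K ⟨⊥, Submodule.fg_bot, bot_le⟩ (Submodule.Quotient.mk y)

variable {N : Type u} [AddCommGroup N] [Module R N]

theorem post_ι (J : Type u) [SmallCategory J] (F : J ⥤ ModuleCat.{u} R) (j : J) (φ : ModuleCat.of R N ⟶ F.obj j) :
    colimit.post F (coyoneda.obj (Opposite.op (ModuleCat.of R N)))
      (colimit.ι (F ⋙ coyoneda.obj (Opposite.op (ModuleCat.of R N))) j φ) = φ ≫ colimit.ι F j :=
  ConcreteCategory.congr_hom (colimit.ι_post F (coyoneda.obj (Opposite.op (ModuleCat.of R N))) j) φ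

theorem finite_of_post (h : ∀ (J : Type u) [SmallCategory J] [IsFiltered J] (F : J ⥤ ModuleCat.{u} R),
    Function.Injective (colimit.post F (coyoneda.obj (Opposite.op (ModuleCat.of R N))))) :
    Module.Finite R N := by
  let j0 : Idx (⊤ : Submodule R N) := ⟨⊥, Submodule.fg_bot, bot_le⟩
  let G := coyoneda.obj (Opposite.op (ModuleCat.of R N))
  let φ : ModuleCat.of R N ⟶ (sys (⊤ : Submodule R N)).obj j0 := ModuleCat.ofHom (⊥ : Submodule R N).mkQ
  let φ0 : ModuleCat.of R N ⟶ (sys (⊤ : Submodule R N)).obj j0 := 0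
  have e : colimit.ι (sys (⊤ : Submodule R N) ⋙ G) j0 φ = colimit.ι (sys (⊤ : Submodule R N) ⋙ G) j0 φ0 := by
    apply h _ (sys ⊤)
    rw [post_ι, post_ι, show φ0 = 0 from rfl, zero_comp]
    exact ModuleCat.hom_ext (LinearMap.ext fun x => toColim_eq_zero ⊤ (Submodule.mem_top : x ∈ ⊤))
  obtain ⟨k, f, g, hfg⟩ := Types.FilteredColimit.colimit_eq_iff _ |>.mp e
  refine Module.finite_def.mpr ?_
  convert k.2.1
  refine (eq_top_iff.mpr fun x _ => ?_).symm
  have := congrArg (fun t : ModuleCat.of R N ⟶ (sys (⊤ : Submodule R N)).obj k => t.hom x)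
    (show φ ≫ (sys ⊤).map f = 0 ≫ (sys ⊤).map g from hfg)
  exact (Submodule.Quotient.mk_eq_zero _).mp this

theorem finitePresentation_of_post (h : ∀ (J : Type u) [SmallCategory J] [IsFiltered J] (F : J ⥤ ModuleCat.{u} R),
    Function.Bijective (colimit.post F (coyoneda.obj (Opposite.op (ModuleCat.of R N))))) :
    Module.FinitePresentation R N := by
  have := finite_of_post fun J _ _ F => (h J F).1
  obtain ⟨n, p, hp⟩ := Module.Finite.exists_fin' R N
  let K := LinearMap.ker p
  let e : N →ₗ[R] (colimit (sys K) : ModuleCat.{u} R) :=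
    K.liftQ (toColim K) (fun x hx => toColim_eq_zero K hx) ∘ₗ (p.quotKerEquivOfSurjective hp).symm.toLinearMap
  obtain ⟨c, hc⟩ := (h _ (sys K)).2 (ModuleCat.ofHom e)
  obtain ⟨L, φ, rfl⟩ := Types.jointly_surjective' c
  rw [post_ι] at hc
  let π : ((Fin n → R) ⧸ L.1) →ₗ[R] N :=
    (p.quotKerEquivOfSurjective hp).toLinearMap ∘ₗ Submodule.factor L.2.2
  let f : N →ₗ[R] ((Fin n → R) ⧸ L.1) := φ.hom
  have hid : π ∘ₗ f = LinearMap.id := by
    refine LinearMap.ext fun x => ?_
    obtain ⟨y, rfl⟩ := hp x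
    have h1 : (colimit.ι (sys K) L).hom (φ.hom (p y)) = toColim K y := by
      refine (congrArg (fun t : ModuleCat.of R N ⟶ colimit (sys K) => t.hom (p y)) hc).trans ?_
      show K.liftQ (toColim K) (fun x hx => toColim_eq_zero K hx) ((p.quotKerEquivOfSurjective hp).symm (p y)) = _
      rw [(LinearEquiv.symm_apply_eq _).mpr (LinearMap.quotKerEquivOfSurjective_apply_mk p hp y).symm]
      rfl
    have h2 := congrArg (fun t => (toQuot K).hom t) h1
    rw [toQuot_toColim] at h2
    replace h2 := (toQuot_ι K L (φ.hom (p y))).symm.trans h2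
    show π (f (p y)) = p y
    exact (congrArg (p.quotKerEquivOfSurjective hp) h2).trans (LinearMap.quotKerEquivOfSurjective_apply_mk p hp y)
  have : Module.FinitePresentation R ((Fin n → R) ⧸ L.1) :=
    Module.finitePresentation_of_surjective L.1.mkQ L.1.mkQ_surjective (by rw [Submodule.ker_mkQ]; exact L.2.1)
  refine Module.finitePresentation_of_surjective π (fun x => ⟨f x, LinearMap.congr_fun hid x⟩) ?_
  have hker : LinearMap.ker π = LinearMap.range (LinearMap.id - f ∘ₗ π) := by
    refine le_antisymm (fun x hx => ⟨x, by simp [LinearMap.mem_ker.mp hx]⟩) ?_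
    rintro _ ⟨x, rfl⟩
    rw [LinearMap.mem_ker]
    simp only [LinearMap.sub_apply, LinearMap.id_apply, LinearMap.comp_apply, map_sub]
    exact sub_eq_zero.mpr (LinearMap.congr_fun hid (π x)).symm
  rw [hker, LinearMap.range_eq_map]
  exact Submodule.FG.map _ Module.Finite.fg_top

end Groth.Agent.HomColim3
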